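import Cfsg.Agent.Lib.BlichfeldtArc.Basic

/-!
Blichfeldt's lemma in an arbitrary finite group: an element all of whose eigenvalues are close to
one of them has all its conjugates preserving the eigenspace of that eigenvalue.
-/

set_option autoImplicit false

namespace CfsgLib.DegreeTwoP

open Module Finset CfsgLib.BlichfeldtArc
open scoped ComplexConjugate

variable {G : Type*} [Group G] [Fintype G] {V : Type*} [AddCommGroup V] [Module ℂ V]
  {ι : Type*} [Fintype ι] (ρ : Representation ℂ G V) (b : Basis ι ℂ V)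

set_option maxHeartbeats 1000000 in
/-- A contraction to the fixed space forces the conjugates to preserve the fixed space. -/
theorem conj_preserves {z : G} {c : ℂ} (hc : ‖c‖ = 1)
    (hcon : ∀ u : V, u ≠ 0 → len ρ b (c • ρ z u - u) < len ρ b u) :
    ∀ g : G, ∀ v : V, c • ρ z v = v → c • ρ z (ρ (g * z * g⁻¹) v) = ρ (g * z * g⁻¹) v := by
  classical
  set T : V →ₗ[ℂ] V := op ρ c z 1 with hT
  have hTe : T = c • ρ z := by simp [hT, op]
  have hc0 : c ≠ 0 := fun h => by simp [h] at hc
  have hcc : conj c * c = 1 := by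
    rw [← Complex.normSq_eq_conj_mul_self, Complex.normSq_eq_norm_sq, hc]; simp
  have hTinv : ∀ u v, form ρ b (T u) (T v) = form ρ b u v := fun u v => by
    rw [hTe, LinearMap.smul_apply, LinearMap.smul_apply, form_smul, hcc, one_mul, form_invariant]
  have hopT : ∀ g u, op ρ c z g u = ρ g (T (ρ g⁻¹ u)) := fun g u => by
    simp [op, hTe, map_mul, Module.End.mul_apply]
  replace hcon : ∀ u : V, u ≠ 0 → len ρ b (T u - u) < len ρ b u := by
    rw [hTe]; simpa using hcon
  have hconB : ∀ g : G, ∀ u : V, u ≠ 0 → len ρ b (op ρ c z g u - u) < len ρ b u := by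
    intro g u hu
    have hu' : ρ g⁻¹ u ≠ 0 := fun h => hu (by
      have := congrArg (ρ g) h
      rwa [map_zero, Representation.self_inv_apply] at this)
    have := hcon _ hu'
    rwa [← len_apply ρ b g, map_sub, Representation.self_inv_apply, ← hopT, len_apply] at this
  -- the fixed space
  set W : Submodule ℂ V := LinearMap.ker (T - LinearMap.id) with hW
  have hWmem : ∀ v, v ∈ W ↔ T v = v := fun v => by simp [hW, sub_eq_zero]
  haveI : FiniteDimensional ℂ V := Module.Finite.of_basis b
  let d := Module.finBasis ℂ W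
  let f : G → ℝ := fun g => ∑ j, len ρ b (op ρ c z g (d j) - d j)
  have hpres : ∀ g : G, ∀ v ∈ W, op ρ c z g v ∈ W := by
    by_contra hcon'
    push Not at hcon'
    obtain ⟨g₀, v₀, hv₀, hv₀'⟩ := hcon'
    obtain ⟨g, hg, hmin⟩ := (Finset.univ.filter fun g : G => ¬ W.map (op ρ c z g) ≤ W).exists_min_image f
      ⟨g₀, mem_filter.mpr ⟨mem_univ _, fun h => hv₀' (h (Submodule.mem_map_of_mem hv₀))⟩⟩
    replace hg : ¬ W.map (op ρ c z g) ≤ W := (mem_filter.mp hg).2
    set B := op ρ c z g with hB
    set Bi : V →ₗ[ℂ] V := conj c • ρ (g * z⁻¹ * g⁻¹) with hBi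
    have hBBi : ∀ u, B (Bi u) = u := fun u => by
      simp only [hB, hBi, op, LinearMap.smul_apply, map_smul, smul_smul]
      rw [← Module.End.mul_apply, ← map_mul, hcc, one_smul,
        show g * z * g⁻¹ * (g * z⁻¹ * g⁻¹) = 1 by group, map_one, Module.End.one_apply]
    set g' := g * z * g⁻¹ with hg'
    have hkey : ∀ v, op ρ c z g' v = B (T (Bi v)) := fun v => by
      simp only [hB, hBi, op, hTe, hg', LinearMap.smul_apply, map_smul, smul_smul]
      rw [show ρ (g * z * g⁻¹) (ρ z (ρ (g * z⁻¹ * g⁻¹) v)) =
          ρ (g * z * g⁻¹ * z * (g * z⁻¹ * g⁻¹)) v by simp only [map_mul, Module.End.mul_apply],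
        show g * z * g⁻¹ * z * (g * z * g⁻¹)⁻¹ = g * z * g⁻¹ * z * (g * z⁻¹ * g⁻¹) by group,
        hcc, one_mul]
    have hBlen : ∀ u, len ρ b (B u) = len ρ b u := fun u => by
      rw [hB, op, LinearMap.smul_apply, len_smul, len_apply, Complex.normSq_eq_norm_sq, hc]; simp
    have hstep : ∀ v ∈ W, op ρ c z g' v - v = B (T (Bi v - v) - (Bi v - v)) := fun v hv => by
      rw [hkey, map_sub T, (hWmem v).mp hv, map_sub, map_sub, map_sub, hBBi]
      abel
    have hfix : ∀ v ∈ W, len ρ b (Bi v - v) = len ρ b (B v - v) := fun v hv => by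
      rw [← hBlen (Bi v - v), map_sub, hBBi, len_sub_comm]
    have hlef : f g' < f g := by
      refine sum_lt_sum (fun j _ => ?_) ?_
      · rw [hstep _ (d j).2, hBlen, ← hfix _ (d j).2]
        rcases eq_or_ne (Bi (d j : V) - d j) 0 with h | h
        · rw [h, map_zero, sub_zero]
        · exact (hcon _ h).le
      · obtain ⟨j, hj⟩ : ∃ j, Bi (d j : V) - d j ≠ 0 := by
          by_contra hall
          push Not at hall
          refine hg (Submodule.map_le_iff_le_comap.mpr fun v hv => ?_)
          have hB1 : B.comp W.subtype = W.subtype := d.ext fun j => by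
            have := hBBi (d j : V)
            rw [sub_eq_zero.mp (hall j)] at this
            exact this
          show B v ∈ W
          rw [show B v = v from LinearMap.congr_fun hB1 ⟨v, hv⟩]
          exact hv
        refine ⟨j, mem_univ _, ?_⟩
        rw [hstep _ (d j).2, hBlen, ← hfix _ (d j).2]
        exact hcon _ hj
    have hg'W : ∀ v ∈ W, op ρ c z g' v ∈ W := by
      by_contra hnot
      exact absurd (hmin g' (mem_filter.mpr ⟨mem_univ _, fun h => hnot fun v hv => h (Submodule.mem_map_of_mem hv)⟩)) (not_le.mpr hlef)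
    obtain ⟨v, hv, hvW⟩ : ∃ v ∈ W, Bi v ∉ W := by
      by_contra hall
      push Not at hall
      refine hg (Submodule.map_le_iff_le_comap.mpr fun v hv => ?_)
      have hinj : Function.Injective (Bi.restrict hall) := fun a a' h => Subtype.ext (by
        have := congrArg (fun t : W => B t.1) h
        simpa [LinearMap.restrict_apply, hBBi] using this)
      obtain ⟨w, hw⟩ := (Bi.restrict hall).injective_iff_surjective.mp hinj ⟨v, hv⟩
      show B v ∈ W
      have hwv : Bi w.1 = v := congrArg Subtype.val hw
      rw [← hwv, hBBi]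
      exact w.2
    set w := T (Bi v) - Bi v with hw
    have hw0 : w ≠ 0 := fun h => hvW ((hWmem _).mpr (sub_eq_zero.mp h))
    have hBw : B w ∈ W := by
      rw [hw, map_sub, ← hkey, hBBi]
      exact W.sub_mem (hg'W v hv) hv
    have hperp : form ρ b w (B w) = 0 := by
      rw [hw, form_sub_left]
      nth_rewrite 1 [← (hWmem _).mp hBw]
      rw [hTinv, sub_self]
    have hperp' : form ρ b (B w) w = 0 := by
      rw [form_conj, hperp, map_zero]
    clear_value w
    have h2 : len ρ b (B w - w) = len ρ b (B w) + len ρ b w := by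
      rw [len, form_sub_left, form_sub_right, form_sub_right, hperp, hperp', sub_zero, zero_sub,
        sub_neg_eq_add, Complex.add_re]
      rfl
    have h3 := hconB g w hw0
    rw [← hB, h2, hBlen] at h3
    have := len_nonneg ρ b w
    linarith
  intro g v hv
  have hvW : v ∈ W := (hWmem v).mpr (by rw [hTe]; exact hv)
  have h := W.smul_mem c⁻¹ (hpres g v hvW)
  rw [op, LinearMap.smul_apply, smul_smul, inv_mul_cancel₀ hc0, one_smul, hWmem, hTe] at h
  exact h

end CfsgLib.DegreeTwoP
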