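import Cfsg.Agent.Lib.SUMinDegree.Eigen

/-!
An element of prime order with few nontrivial eigenvalues, and the weight decomposition of an
invariant subspace under a finite abelian group of operators.
-/

set_option autoImplicit false

namespace CfsgLib.DegreeTwoP

open Module CfsgLib.SUMinDegree

variable {G : Type*} [Group G] {V : Type*} [AddCommGroup V] [Module ℂ V] [FiniteDimensional ℂ V]
  (ρ : Representation ℂ G V)

section Decomp

variable {A : Type*} [AddCommGroup A] [Fintype A] {T : A → G}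

/-- An invariant subspace is the sum of its weight parts. -/
theorem finrank_eq_sum (hT : ∀ a b, T (a + b) = T a * T b) (S : Submodule ℂ V)
    (hS : ∀ a, ∀ v ∈ S, ρ (T a) v ∈ S) :
    ∑ ψ : AddChar A ℂ, finrank ℂ (S ⊓ weight ρ T ψ : Submodule ℂ V) = finrank ℂ S := by
  classical
  refine le_antisymm (sum_finrank_le ρ id Function.injective_id S) ?_
  let L : (∀ ψ : AddChar A ℂ, (S ⊓ weight ρ T ψ : Submodule ℂ V)) →ₗ[ℂ] S :=
    { toFun := fun x => ⟨∑ i, (x i : V), Submodule.sum_mem _ fun i _ => (x i).2.1⟩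
      map_add' := fun x y => Subtype.ext (by simp [Finset.sum_add_distrib])
      map_smul' := fun c x => Subtype.ext (by simp [Finset.smul_sum]) }
  have hL : Function.Surjective L := by
    rintro ⟨v, hv⟩
    refine ⟨fun ψ => ⟨(Fintype.card A : ℂ)⁻¹ • proj ρ T ψ v,
      Submodule.smul_mem _ _ (proj_mem ρ hS ψ hv),
      Submodule.smul_mem _ _ (proj_mem_weight ρ hT ψ v)⟩, Subtype.ext ?_⟩
    show ∑ ψ, (Fintype.card A : ℂ)⁻¹ • proj ρ T ψ v = v
    rw [← Finset.smul_sum, sum_proj ρ hT, inv_smul_smul₀ (Nat.cast_ne_zero.mpr Fintype.card_ne_zero)]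
  have h := LinearMap.finrank_range_le L
  rw [LinearMap.range_eq_top.mpr hL, finrank_top, finrank_pi_fintype] at h
  exact h

theorem eq_top_of_proj (hT : ∀ a b, T (a + b) = T a * T b) (M : Submodule ℂ V)
    (h : ∀ (ψ : AddChar A ℂ) (v : V), proj ρ T ψ v ∈ M) : M = ⊤ := by
  refine eq_top_iff.mpr fun v _ => ?_
  have h1 : (Fintype.card A : ℂ) • v ∈ M := by
    rw [← sum_proj ρ hT v]
    exact Submodule.sum_mem _ fun ψ _ => h ψ v
  rwa [Submodule.smul_mem_iff _ (Nat.cast_ne_zero.mpr Fintype.card_ne_zero)] at h1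

end Decomp

/-- The eigenspace of `ρ x`. -/
abbrev eig (x : G) (η : ℂ) : Submodule ℂ V := Module.End.eigenspace (ρ x) η

theorem mem_eig {x : G} {η : ℂ} {v : V} : v ∈ eig ρ x η ↔ ρ x v = η • v :=
  Module.End.mem_eigenspace_iff

theorem apply_pow {x : G} {η : ℂ} {v : V} (h : ρ x v = η • v) (k : ℕ) :
    ρ (x ^ k) v = η ^ k • v := by
  induction k with
  | zero => simp
  | succ k ih => rw [pow_succ', map_mul, Module.End.mul_apply, ih, map_smul, h, smul_smul, pow_succ]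

/-- An element of order `p` whose nontrivial eigenspaces have dimensions divisible by `p` in a
space of dimension less than `2 * p` has just two eigenvalues. -/
theorem two_eigen {p : ℕ} [Fact p.Prime] (hn : finrank ℂ V < 2 * p) {x : G} (hxp : x ^ p = 1)
    (hx1 : ρ x ≠ 1) (hdvd : ∀ η : ℂ, η ≠ 1 → p ∣ finrank ℂ (eig ρ x η)) :
    ∃ ζ : ℂ, ζ ^ p = 1 ∧ ζ ≠ 1 ∧ finrank ℂ (eig ρ x ζ) = p ∧
      (∀ η : ℂ, η ≠ 1 → eig ρ x η ≠ ⊥ → η = ζ) ∧ eig ρ x 1 ⊔ eig ρ x ζ = ⊤ := by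
  classical
  have hp : p.Prime := Fact.out
  let T : ZMod p → G := fun a => x ^ a.val
  have hT : ∀ a b, T (a + b) = T a * T b := fun a b => by
    show x ^ (a + b).val = x ^ a.val * x ^ b.val
    rw [← pow_add, ZMod.val_add]
    exact (pow_eq_pow_mod _ hxp).symm
  have hT1 : T 1 = x := by show x ^ (1 : ZMod p).val = x; rw [ZMod.val_one, pow_one]
  have hmem : ∀ (ψ : AddChar (ZMod p) ℂ) (v : V), v ∈ weight ρ T ψ → v ∈ eig ρ x (ψ 1) := fun ψ v hv => by
    have h := (mem_weight ρ T).mp hv 1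
    rw [hT1] at h
    exact (mem_eig ρ).mpr h
  obtain ⟨v, hv⟩ : ∃ v, ρ x v ≠ v := by
    by_contra hc
    push Not at hc
    exact hx1 (LinearMap.ext hc)
  obtain ⟨ψ, w, hψ, hw0, -, hw⟩ := exists_weight_ne ρ hT (W := ⊤) (fun _ _ _ => Submodule.mem_top)
    (Submodule.mem_top (x := v)) (a := 1) (by rwa [hT1])
  have hζ1 : ψ 1 ≠ 1 := fun h => hψ (DFunLike.ext _ _ fun a => by
    rw [← ZMod.natCast_rightInverse a, show ((a.val : ℕ) : ZMod p) = a.val • (1 : ZMod p) by simp,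
      AddChar.map_nsmul_eq_pow, h, one_pow, AddChar.one_apply])
  have hζp : ψ 1 ^ p = 1 := by
    rw [← AddChar.map_nsmul_eq_pow]; simp
  have hne : ∀ η : ℂ, η ≠ 1 → eig ρ x η ≠ ⊥ → p ≤ finrank ℂ (eig ρ x η) := fun η hη hb =>
    Nat.le_of_dvd (Nat.pos_of_ne_zero fun h => hb (Submodule.finrank_eq_zero.mp h)) (hdvd η hη)
  have hwb : eig ρ x (ψ 1) ≠ ⊥ := (Submodule.ne_bot_iff _).mpr ⟨w, hmem ψ w hw, hw0⟩
  have hd : finrank ℂ (eig ρ x (ψ 1)) = p := by
    obtain ⟨k, hk⟩ := hdvd _ hζ1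
    have hle : finrank ℂ (eig ρ x (ψ 1)) ≤ finrank ℂ V := Submodule.finrank_le _
    have h1 := hne _ hζ1 hwb
    have hk2 : k < 2 := Nat.lt_of_mul_lt_mul_left (a := p) (by omega)
    rcases Nat.lt_or_ge k 1 with h | h
    · exfalso
      rw [hk, show k = 0 by omega, mul_zero] at h1
      exact absurd h1 (by have := hp.pos; omega)
    · rw [hk, show k = 1 by omega, mul_one]
  have huniq : ∀ η : ℂ, η ≠ 1 → eig ρ x η ≠ ⊥ → η = ψ 1 := fun η hη hb => by
    by_contra hne'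
    have hdis : eig ρ x η ⊓ eig ρ x (ψ 1) = ⊥ :=
      disjoint_iff.mp ((Module.End.eigenspaces_iSupIndep (ρ x)).pairwiseDisjoint hne')
    have h := Submodule.finrank_sup_add_finrank_inf_eq (eig ρ x η) (eig ρ x (ψ 1))
    rw [hdis, finrank_bot, hd] at h
    have hle : finrank ℂ ↥(eig ρ x η ⊔ eig ρ x (ψ 1)) ≤ finrank ℂ V := Submodule.finrank_le _
    have h1 := hne η hη hb
    omega
  refine ⟨ψ 1, hζp, hζ1, hd, huniq, eq_top_of_proj ρ hT _ fun φ u => ?_⟩
  rcases eq_or_ne (proj ρ T φ u) 0 with h0 | h0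
  · rw [h0]; exact zero_mem _
  have hm := hmem φ _ (proj_mem_weight ρ hT φ u)
  rcases eq_or_ne (φ 1) 1 with h1 | h1
  · exact Submodule.mem_sup_left (h1 ▸ hm)
  · exact Submodule.mem_sup_right (huniq _ h1 ((Submodule.ne_bot_iff _).mpr ⟨_, hm, h0⟩) ▸ hm)

end CfsgLib.DegreeTwoP
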