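import Cfsg.Agent.Lib.DegreeTwoP.Blichfeldt
import Cfsg.Agent.Lib.DegreeTwoP.Two

/-!
An element with two eigenvalues less than sixty degrees apart commutes with all its conjugates.
-/

set_option autoImplicit false

namespace CfsgLib.DegreeTwoP

open Module CfsgLib.BlichfeldtArc
open scoped ComplexConjugate

theorem normSq_exp_sub_one_lt {p : ℕ} (h7 : 7 ≤ p) :
    Complex.normSq (Complex.exp (2 * Real.pi * Complex.I / p) - 1) < 1 := by
  have hp : (7 : ℝ) ≤ p := by exact_mod_cast h7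
  have e : (2 * Real.pi * Complex.I / p : ℂ) = ((2 * Real.pi / p : ℝ) : ℂ) * Complex.I := by
    push_cast; ring
  rw [e, Complex.exp_mul_I, ← Complex.ofReal_cos, ← Complex.ofReal_sin]
  simp only [Complex.normSq_apply, Complex.sub_re, Complex.sub_im, Complex.add_re, Complex.add_im,
    Complex.mul_re, Complex.mul_im, Complex.ofReal_re, Complex.ofReal_im, Complex.I_re,
    Complex.I_im, Complex.one_re, Complex.one_im]
  have hpi := Real.pi_pos
  have h0 : 0 ≤ 2 * Real.pi / p := by positivity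
  have h1 : 2 * Real.pi / p < Real.pi / 3 := by
    rw [div_lt_div_iff₀ (by positivity) (by norm_num)]
    nlinarith
  have hc : Real.cos (Real.pi / 3) < Real.cos (2 * Real.pi / p) :=
    Real.cos_lt_cos_of_nonneg_of_le_pi h0 (by linarith) h1
  rw [Real.cos_pi_div_three] at hc
  nlinarith [Real.sin_sq_add_cos_sq (2 * Real.pi / p)]

variable {G : Type*} [Group G] [Fintype G] {V : Type*} [AddCommGroup V] [Module ℂ V]
  [FiniteDimensional ℂ V] (ρ : Representation ℂ G V)

/-- Two eigenvalues, `1` and a nearby one: the element commutes with all its conjugates. -/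
theorem commute_conj (hinj : Function.Injective ρ) {z : G} {ω : ℂ} (hω1 : ω ≠ 1) (hω : ‖ω‖ = 1)
    (hlt : Complex.normSq (ω - 1) < 1) (hsup : eig ρ z 1 ⊔ eig ρ z ω = ⊤) (g : G) :
    z * (g * z * g⁻¹) = g * z * g⁻¹ * z := by
  classical
  let b := Module.finBasis ℂ V
  have hwc : conj ω * ω = 1 := by
    rw [← Complex.normSq_eq_conj_mul_self, Complex.normSq_eq_norm_sq, hω]; simp
  have horth : ∀ u₁ ∈ eig ρ z 1, ∀ u₂ ∈ eig ρ z ω, form ρ b u₁ u₂ = 0 := fun u₁ h₁ u₂ h₂ => by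
    have h := form_invariant ρ b z u₁ u₂
    rw [(mem_eig ρ).mp h₁, (mem_eig ρ).mp h₂, form_smul, map_one, one_mul] at h
    have h' : (ω - 1) * form ρ b u₁ u₂ = 0 := by linear_combination h
    exact (mul_eq_zero.mp h').resolve_left (sub_ne_zero.mpr hω1)
  have hlen : ∀ u₁ ∈ eig ρ z 1, ∀ u₂ ∈ eig ρ z ω,
      len ρ b (u₁ + u₂) = len ρ b u₁ + len ρ b u₂ := fun u₁ h₁ u₂ h₂ => by
    have h12 := horth u₁ h₁ u₂ h₂
    have h21 : form ρ b u₂ u₁ = 0 := by rw [form_conj, h12, map_zero]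
    simp only [len, form_add_left, form_add_right, h12, h21, add_zero, zero_add, Complex.add_re]
  -- both centres
  have key : ∀ c μ₁ μ₂ : ℂ, ‖c‖ = 1 → Complex.normSq (μ₁ - 1) < 1 → Complex.normSq (μ₂ - 1) < 1 →
      c * 1 = μ₁ → c * ω = μ₂ → ∀ v : V, c • ρ z v = v →
      c • ρ z (ρ (g * z * g⁻¹) v) = ρ (g * z * g⁻¹) v := by
    intro c μ₁ μ₂ hc hl1 hl2 e1 e2
    refine conj_preserves ρ b hc (fun u hu => ?_) g
    obtain ⟨u₁, h₁, u₂, h₂, rfl⟩ := Submodule.mem_sup.mp (hsup ▸ Submodule.mem_top (x := u))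
    have e : c • ρ z (u₁ + u₂) - (u₁ + u₂) = (μ₁ - 1) • u₁ + (μ₂ - 1) • u₂ := by
      rw [map_add, (mem_eig ρ).mp h₁, (mem_eig ρ).mp h₂, smul_add, smul_smul, smul_smul, e1, e2,
        sub_smul, sub_smul, one_smul, one_smul]
      abel
    rw [e, hlen _ (Submodule.smul_mem _ _ h₁) _ (Submodule.smul_mem _ _ h₂), len_smul, len_smul,
      hlen _ h₁ _ h₂]
    have n1 := len_nonneg ρ b u₁
    have n2 := len_nonneg ρ b u₂
    rcases eq_or_ne u₁ 0 with h0 | h0
    · have hu2 : u₂ ≠ 0 := fun h => hu (by rw [h0, h, add_zero])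
      have := len_pos ρ b hu2
      nlinarith
    · have := len_pos ρ b h0
      nlinarith
  have hA : ∀ v ∈ eig ρ z 1, ρ (g * z * g⁻¹) v ∈ eig ρ z 1 := fun v hv => by
    have h := key 1 1 ω (by simp) (by simp) hlt (one_mul 1) (one_mul ω) v
      (by rw [(mem_eig ρ).mp hv, one_smul, one_smul])
    rw [one_smul] at h
    exact (mem_eig ρ).mpr (by rw [h, one_smul])
  have hB : ∀ v ∈ eig ρ z ω, ρ (g * z * g⁻¹) v ∈ eig ρ z ω := fun v hv => by
    have h := key (conj ω) (conj ω) 1 (by simpa using hω)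
      (by rw [← Complex.normSq_conj, map_sub, map_one, Complex.conj_conj]; exact hlt) (by simp)
      (mul_one _) hwc v (by rw [(mem_eig ρ).mp hv, smul_smul, hwc, one_smul])
    refine (mem_eig ρ).mpr ?_
    have h' := congrArg (fun t => ω • t) h
    rwa [smul_smul, mul_comm ω, hwc, one_smul] at h'
  refine hinj (LinearMap.ext fun v => ?_)
  obtain ⟨v₁, h₁, v₂, h₂, rfl⟩ := Submodule.mem_sup.mp (hsup ▸ Submodule.mem_top (x := v))
  simp only [map_mul ρ z, map_mul ρ (g * z * g⁻¹) z, Module.End.mul_apply, map_add]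
  rw [(mem_eig ρ).mp h₁, (mem_eig ρ).mp h₂, map_smul, map_smul, (mem_eig ρ).mp (hA _ h₁),
    (mem_eig ρ).mp (hB _ h₂)]

end CfsgLib.DegreeTwoP
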