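import Cfsg.Agent.Lib.DegreeTwoP.Two

/-!
A normal abelian subgroup with an element having an eigenvalue of multiplicity prime to the degree
makes the representation monomial over an abelian normal subgroup.
-/

set_option autoImplicit false

namespace CfsgLib.DegreeTwoP

open Module CfsgLib.SUMinDegree

theorem not_sq_dvd_factorial {p : ℕ} (hp : p.Prime) : ∀ k, k < 2 * p → ¬ p ^ 2 ∣ k.factorial := by
  intro k
  induction k with
  | zero =>
    intro _ h
    rw [Nat.factorial_zero, Nat.dvd_one] at h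
    exact absurd h (Nat.one_lt_pow two_ne_zero hp.one_lt).ne'
  | succ k ih =>
    intro hk h
    rw [Nat.factorial_succ] at h
    by_cases hd : p ∣ k + 1
    · obtain ⟨c, hc⟩ := hd
      have hc1 : c = 1 := by
        rcases Nat.lt_trichotomy c 1 with h1 | h1 | h1
        · rw [show c = 0 by omega] at hc; omega
        · exact h1
        · have : p * 2 ≤ p * c := Nat.mul_le_mul_left p h1
          omega
      rw [hc, hc1, mul_one, sq] at h
      have := (Nat.Prime.dvd_factorial hp).mp (Nat.dvd_of_mul_dvd_mul_left hp.pos h)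
      subst hc1; omega
    · exact ih (by omega) ((Nat.Coprime.pow_left 2 (hp.coprime_iff_not_dvd.mpr hd)).dvd_of_dvd_mul_left h)

variable {G : Type*} [Group G] [Finite G] {V : Type*} [AddCommGroup V] [Module ℂ V]
  [FiniteDimensional ℂ V] (ρ : Representation ℂ G V)

/-- The monomial structure. -/
theorem monomial (hirr : ρ.IsIrreducible) (hinj : Function.Injective ρ) {p : ℕ} (hp : p.Prime)
    (hn : ¬ p ∣ finrank ℂ V) (N : Subgroup G) [N.Normal] (hN : ∀ a ∈ N, ∀ b ∈ N, a * b = b * a)
    {z : G} (hz : z ∈ N) {ω : ℂ} (hdim : finrank ℂ (eig ρ z ω) = p) :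
    ∃ C : Subgroup G, C.Normal ∧ (∀ a ∈ C, ∀ b ∈ C, a * b = b * a) ∧
      C.index ∣ (finrank ℂ V).factorial := by
  classical
  haveI := hirr
  letI cg : CommGroup N := { (inferInstance : Group N) with mul_comm := fun a b => Subtype.ext (hN a a.2 b b.2) }
  letI : Fintype (Additive N) := Fintype.ofFinite _
  let T : Additive N → G := fun a => (a.toMul : G)
  have hT : ∀ a b, T (a + b) = T a * T b := fun a b => rfl
  let W : AddChar (Additive N) ℂ → Submodule ℂ V := fun ψ => weight ρ T ψ
  -- conjugation permutes the weight spaces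
  have hmap : ∀ (g : G) ψ, ∃ φ, Submodule.map (ρ g) (W ψ) = W φ := by
    intro g ψ
    let e : Additive N →+ Additive N :=
      (MonoidHom.mk' (fun a : N => (⟨g⁻¹ * a * g, by
        simpa using Subgroup.Normal.conj_mem (inferInstance : N.Normal) _ a.2 g⁻¹⟩ : N))
        (fun a b => Subtype.ext (by simp [mul_assoc]))).toAdditive
    refine ⟨ψ.compAddMonoidHom e, le_antisymm (Submodule.map_le_iff_le_comap.mpr fun v hv => ?_) fun w hw => ?_⟩
    · refine (mem_weight ρ T).mpr fun a => ?_
      have h := (mem_weight ρ T).mp hv (e a)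
      have h2 : ρ (T a) (ρ g v) = ρ g (ρ (T (e a)) v) := by
        rw [← Module.End.mul_apply, ← Module.End.mul_apply, ← map_mul, ← map_mul,
          show T (e a) = g⁻¹ * T a * g from rfl, show g * (g⁻¹ * T a * g) = T a * g by group]
      rw [h2, h, map_smul]; rfl
    · refine ⟨ρ g⁻¹ w, (mem_weight ρ T).mpr fun b => ?_, Representation.self_inv_apply ρ g w⟩
      let a : Additive N := Additive.ofMul ⟨g * b.toMul * g⁻¹,
        Subgroup.Normal.conj_mem (inferInstance : N.Normal) _ (b.toMul).2 g⟩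
      have hea : e a = b := Subtype.ext (show g⁻¹ * (g * b.toMul * g⁻¹) * g = (b.toMul : G) by group)
      have h := (mem_weight ρ T).mp hw a
      rw [AddChar.compAddMonoidHom_apply, hea] at h
      have h2 : ρ (T b) (ρ g⁻¹ w) = ρ g⁻¹ (ρ (T a) w) := by
        rw [← Module.End.mul_apply, ← Module.End.mul_apply, ← map_mul, ← map_mul,
          show T a = g * T b * g⁻¹ from rfl, show g⁻¹ * (g * T b * g⁻¹) = T b * g⁻¹ by group]
      rw [h2, h, map_smul]
  have hρinj : ∀ g, Function.Injective (ρ g) := fun g a b h => by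
    have := congrArg (ρ g⁻¹) h
    rwa [Representation.inv_self_apply, Representation.inv_self_apply] at this
  -- transitivity
  have htrans : ∀ ψ φ, W ψ ≠ ⊥ → W φ ≠ ⊥ → finrank ℂ (W φ) = finrank ℂ (W ψ) := by
    intro ψ φ hψ hφ
    obtain ⟨g, hg⟩ : ∃ g, Submodule.map (ρ g) (W ψ) = W φ := by
      by_contra hc
      push Not at hc
      let P : V →ₗ[ℂ] V := ∑ a : Additive N, φ (-a) • ρ (T a)
      have hP : ∀ v, P v = proj ρ T φ v := fun v => by simp [P, proj, LinearMap.sum_apply]
      let U : Subrepresentation ρ :=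
        { toSubmodule := ⨆ g, Submodule.map (ρ g) (W ψ)
          apply_mem_toSubmodule := fun h v hv => by
            revert v
            show (⨆ g, Submodule.map (ρ g) (W ψ)) ≤ Submodule.comap (ρ h) (⨆ g, Submodule.map (ρ g) (W ψ))
            refine iSup_le fun g => ?_
            rw [← Submodule.map_le_iff_le_comap, ← Submodule.map_comp]
            refine le_trans (le_of_eq ?_) (le_iSup _ (h * g))
            rw [map_mul]; rfl }
      have htop : (⨆ g, Submodule.map (ρ g) (W ψ)) = ⊤ := by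
        rcases eq_bot_or_eq_top U with h | h
        · refine absurd (eq_bot_iff.mpr ?_) hψ
          have hb : (⨆ g, Submodule.map (ρ g) (W ψ)) = ⊥ := congrArg Subrepresentation.toSubmodule h
          exact fun v hv => hb ▸ le_iSup (fun g => Submodule.map (ρ g) (W ψ)) 1 ⟨v, hv, by simp⟩
        · exact congrArg Subrepresentation.toSubmodule h
      have hker : (⨆ g, Submodule.map (ρ g) (W ψ)) ≤ LinearMap.ker P := iSup_le fun g => fun v hv => by
        obtain ⟨φ', hφ'⟩ := hmap g ψ
        have hne : φ' ≠ φ := fun e => hc g (e ▸ hφ')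
        rw [LinearMap.mem_ker, hP, proj_of_weight ρ φ φ' (show v ∈ W φ' from hφ' ▸ hv), if_neg hne, zero_smul]
      obtain ⟨w, hw, hw0⟩ := (Submodule.ne_bot_iff _).mp hφ
      have hw' : P w = 0 := hker (htop ▸ Submodule.mem_top)
      rw [hP, proj_of_weight ρ φ φ hw, if_pos rfl] at hw'
      exact hw0 ((smul_eq_zero.mp hw').resolve_left (Nat.cast_ne_zero.mpr Fintype.card_ne_zero))
    rw [← hg]
    exact ((Submodule.equivMapOfInjective _ (hρinj g) (W ψ)).finrank_eq).symm
  -- lines
  have hline : ∀ ψ, W ψ ≠ ⊥ → finrank ℂ (W ψ) = 1 := by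
    intro ψ hψ
    have hm : finrank ℂ (W ψ) ∣ finrank ℂ V := by
      rw [← finrank_top ℂ V, ← finrank_eq_sum ρ hT ⊤ fun _ _ _ => Submodule.mem_top]
      refine Finset.dvd_sum fun φ _ => ?_
      rw [top_inf_eq]
      rcases eq_or_ne (W φ) ⊥ with h | h
      · rw [show weight ρ T φ = ⊥ from h, finrank_bot]; exact dvd_zero _
      · rw [show finrank ℂ (weight ρ T φ) = finrank ℂ (W φ) from rfl, htrans ψ φ hψ h]
    have hmp : finrank ℂ (W ψ) ∣ p := by
      have hinv : ∀ a, ∀ v ∈ eig ρ z ω, ρ (T a) v ∈ eig ρ z ω := fun a v hv => by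
        refine (mem_eig ρ).mpr ?_
        rw [← Module.End.mul_apply, ← map_mul, hN z hz _ (a.toMul).2, map_mul, Module.End.mul_apply,
          (mem_eig ρ).mp hv, map_smul]
      rw [← hdim, ← finrank_eq_sum ρ hT _ hinv]
      refine Finset.dvd_sum fun φ _ => ?_
      by_cases hb : eig ρ z ω ⊓ weight ρ T φ = ⊥
      · rw [hb, finrank_bot]; exact dvd_zero _
      obtain ⟨v, hv, hv0⟩ := (Submodule.ne_bot_iff _).mp hb
      have hzφ : φ (Additive.ofMul (⟨z, hz⟩ : N)) = ω := by
        have h := (mem_weight ρ T).mp hv.2 (Additive.ofMul (⟨z, hz⟩ : N))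
        rw [show T (Additive.ofMul (⟨z, hz⟩ : N)) = z from rfl, (mem_eig ρ).mp hv.1] at h
        exact (smul_left_injective ℂ hv0 h).symm
      have hle : weight ρ T φ ≤ eig ρ z ω := fun u hu => (mem_eig ρ).mpr (by
        have h := (mem_weight ρ T).mp hu (Additive.ofMul (⟨z, hz⟩ : N))
        rwa [show T (Additive.ofMul (⟨z, hz⟩ : N)) = z from rfl, hzφ] at h)
      rw [inf_eq_right.mpr hle, show finrank ℂ (weight ρ T φ) = finrank ℂ (W φ) from rfl,
        htrans ψ φ hψ ((Submodule.ne_bot_iff _).mpr ⟨v, hv.2, hv0⟩)]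
    rcases (Nat.dvd_prime hp).mp hmp with h | h
    · exact h
    · exact absurd (h ▸ hm) hn
  -- the permutation representation
  let Ω := {U : Submodule ℂ V // U ≠ ⊥ ∧ ∃ ψ, U = W ψ}
  have hΩf : Finite Ω := Finite.of_injective (fun U => U.2.2.choose)
    (fun U U' h => Subtype.ext (U.2.2.choose_spec.trans ((congrArg W h).trans U'.2.2.choose_spec.symm)))
  have hΩ : Nat.card Ω ≤ finrank ℂ V := by
    haveI : Fintype Ω := Fintype.ofFinite _
    have h := sum_finrank_le ρ (fun U : Ω => U.2.2.choose)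
      (fun U U' h => Subtype.ext (U.2.2.choose_spec.trans ((congrArg W h).trans U'.2.2.choose_spec.symm))) ⊤
      (T := T)
    rw [finrank_top] at h
    refine le_trans (le_of_eq ?_) h
    rw [Nat.card_eq_fintype_card, ← Finset.card_univ, Finset.card_eq_sum_ones]
    refine Finset.sum_congr rfl fun U _ => ?_
    rw [top_inf_eq]
    exact (hline _ (U.2.2.choose_spec ▸ U.2.1)).symm
  have hact : ∀ (g : G) (U : Ω), Submodule.map (ρ g) U.1 ≠ ⊥ ∧ ∃ ψ, Submodule.map (ρ g) U.1 = W ψ := by
    intro g U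
    obtain ⟨ψ, hψ⟩ := U.2.2
    refine ⟨fun h => U.2.1 (eq_bot_iff.mpr fun v hv => ?_), by rw [hψ]; exact hmap g ψ⟩
    have : ρ g v = 0 := (Submodule.mem_bot ℂ).mp (h ▸ Submodule.mem_map_of_mem hv)
    exact (Submodule.mem_bot ℂ).mpr (hρinj g (by rw [this, map_zero]))
  letI : MulAction G Ω :=
    { smul := fun g U => ⟨Submodule.map (ρ g) U.1, hact g U⟩
      one_smul := fun U => Subtype.ext (show Submodule.map (ρ 1) U.1 = U.1 by
        rw [map_one]; exact Submodule.map_id _)
      mul_smul := fun g h U => Subtype.ext (show Submodule.map (ρ (g * h)) U.1 =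
          Submodule.map (ρ g) (Submodule.map (ρ h) U.1) by
        rw [map_mul]; exact Submodule.map_comp _ _ _) }
  refine ⟨(MulAction.toPermHom G Ω).ker, inferInstance, ?_, ?_⟩
  · intro a ha b hb
    refine hinj (LinearMap.ext fun v => ?_)
    suffices h : LinearMap.eqLocus (ρ (a * b)) (ρ (b * a)) = ⊤ by
      exact (h ▸ Submodule.mem_top : v ∈ LinearMap.eqLocus (ρ (a * b)) (ρ (b * a)))
    refine eq_top_of_proj ρ hT _ fun ψ u => ?_
    set w := proj ρ T ψ u with hw
    rcases eq_or_ne w 0 with h0 | h0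
    · rw [h0]; exact zero_mem _
    have hwW : w ∈ W ψ := proj_mem_weight ρ hT ψ u
    have hb0 : W ψ ≠ ⊥ := (Submodule.ne_bot_iff _).mpr ⟨w, hwW, h0⟩
    have hscal : ∀ c : G, c ∈ (MulAction.toPermHom G Ω).ker → ∃ r : ℂ, ρ c w = r • w := by
      intro c hc
      have h1 : c • (⟨W ψ, hb0, ψ, rfl⟩ : Ω) = ⟨W ψ, hb0, ψ, rfl⟩ :=
        Equiv.Perm.ext_iff.mp (MonoidHom.mem_ker.mp hc) _
      have h2 : Submodule.map (ρ c) (W ψ) = W ψ := congrArg Subtype.val h1
      have h3 : ρ c w ∈ W ψ := h2 ▸ Submodule.mem_map_of_mem hwW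
      obtain ⟨r, hr⟩ := exists_smul_eq_of_finrank_eq_one (hline ψ hb0) (x := (⟨w, hwW⟩ : W ψ))
        (fun e => h0 (congrArg Subtype.val e)) ⟨ρ c w, h3⟩
      exact ⟨r, (congrArg Subtype.val hr).symm⟩
    obtain ⟨r, hr⟩ := hscal a ha
    obtain ⟨s, hs⟩ := hscal b hb
    show ρ (a * b) w = ρ (b * a) w
    rw [map_mul, map_mul, Module.End.mul_apply, Module.End.mul_apply, hs, hr, map_smul, map_smul,
      hr, hs, smul_smul, smul_smul, mul_comm]
  · rw [Subgroup.index_ker]
    refine (Subgroup.card_subgroup_dvd_card _).trans ?_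
    rw [Nat.card_perm]
    exact Nat.factorial_dvd_factorial hΩ

end CfsgLib.DegreeTwoP
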