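import Cfsg.Agent.Lib.DegreeTwoP.Commute
import Cfsg.Agent.Lib.DegreeTwoP.Monomial
import Cfsg.Agent.Lib.IsolatedMin.Basic
import Cfsg.Agent.Lib.Fitting.Basic

/-!
Irreducible linear groups of degree less than `2 * p` with nonabelian Sylow `p`-subgroup.
-/

set_option autoImplicit false

namespace CfsgLib.DegreeTwoP

open Module

theorem eq_top_inf_center {P : Type*} [Group P] [Finite P] {p : ℕ} [Fact p.Prime] (hP : IsPGroup p P)
    {x₀ y₀ : P} (hne : x₀ * y₀ ≠ y₀ * x₀) :
    ∃ x : P, x ∈ commutator P ∧ x ∈ Subgroup.center P ∧ orderOf x = p := by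
  haveI : (commutator P).Normal := Subgroup.commutator_normal _ _
  have h1 : commutator P ≠ ⊥ := fun h => hne
    (commutatorElement_eq_one_iff_mul_comm.mp (Subgroup.mem_bot.mp (h ▸
      Subgroup.commutator_mem_commutator (Subgroup.mem_top x₀) (Subgroup.mem_top y₀))))
  haveI : Nontrivial (commutator P ⊓ Subgroup.center P : Subgroup P) :=
    (Subgroup.nontrivial_iff_ne_bot _).mpr (IsolatedMin.inf_center_ne_bot hP _ h1)
  obtain ⟨k, hk0, hk⟩ := (hP.to_subgroup (commutator P ⊓ Subgroup.center P)).nontrivial_iff_card.mp inferInstance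
  obtain ⟨x, hx⟩ := exists_prime_orderOf_dvd_card' (G := (commutator P ⊓ Subgroup.center P : Subgroup P)) p
    (hk ▸ dvd_pow_self p hk0.ne')
  exact ⟨x, x.2.1, x.2.2, by rw [← hx, Subgroup.orderOf_coe]⟩

variable {G : Type*} [Group G] [Finite G] {V : Type*} [AddCommGroup V] [Module ℂ V]
  [FiniteDimensional ℂ V] (ρ : Representation ℂ G V)

/-- Central commutators of a `p`-subgroup act with determinant one on their eigenspaces. -/
theorem dvd_eig {P : Subgroup G} {p : ℕ} [Fact p.Prime] {x : P} (hxc : x ∈ commutator P)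
    (hxz : x ∈ Subgroup.center P) (hxp : (x : G) ^ p = 1) {η : ℂ} (hη : η ≠ 1) :
    p ∣ finrank ℂ (eig ρ (x : G) η) := by
  rcases eq_or_ne (eig ρ (x : G) η) ⊥ with hb | hb
  · rw [hb, finrank_bot]; exact dvd_zero p
  have hinv : ∀ g : P, ∀ v ∈ eig ρ (x : G) η, ρ (g : G) v ∈ eig ρ (x : G) η := fun g v hv => by
    refine (mem_eig ρ).mpr ?_
    rw [← Module.End.mul_apply, ← map_mul,
      show (x : G) * g = g * x from congrArg Subtype.val (Subgroup.mem_center_iff.mp hxz g).symm,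
      map_mul, Module.End.mul_apply, (mem_eig ρ).mp hv, map_smul]
  let f : P →* Module.End ℂ (eig ρ (x : G) η) :=
    { toFun := fun g => (ρ (g : G)).restrict (hinv g)
      map_one' := LinearMap.ext fun v => Subtype.ext (by simp [LinearMap.restrict_apply])
      map_mul' := fun a b => LinearMap.ext fun v => Subtype.ext (by simp [LinearMap.restrict_apply]) }
  have hker : x ∈ ((LinearMap.det.comp f).toHomUnits).ker := Abelianization.commutator_subset_ker _ hxc
  have hdet : LinearMap.det (f x) = 1 := by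
    have := congrArg Units.val (MonoidHom.mem_ker.mp hker)
    simpa using this
  have hfx : f x = η • (LinearMap.id : eig ρ (x : G) η →ₗ[ℂ] eig ρ (x : G) η) :=
    LinearMap.ext fun v => Subtype.ext ((mem_eig ρ).mp v.2)
  rw [hfx, LinearMap.det_smul, LinearMap.det_id, mul_one] at hdet
  obtain ⟨v, hv, hv0⟩ := (Submodule.ne_bot_iff _).mp hb
  have hηp : η ^ p = 1 := by
    have h := apply_pow ρ ((mem_eig ρ).mp hv) p
    rw [hxp, map_one, Module.End.one_apply] at h
    exact (smul_left_injective ℂ hv0 (show (1 : ℂ) • v = η ^ p • v by rw [one_smul]; exact h)).symm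
  rw [← orderOf_eq_prime hηp hη]
  exact orderOf_dvd_of_pow_eq_one hdet

/-- The index of the `p`-core is not divisible by `p ^ 2`. -/
theorem not_sq_dvd_index (hirr : ρ.IsIrreducible) (hinj : Function.Injective ρ) {p : ℕ}
    [Fact p.Prime] (h7 : 7 ≤ p) (hn2 : finrank ℂ V < 2 * p) (hnp : finrank ℂ V ≠ p)
    (P : Sylow p G) {x₀ y₀ : (P : Subgroup G)} (hne : x₀ * y₀ ≠ y₀ * x₀) :
    ¬ p ^ 2 ∣ (Cfsg.pCore p G).index := by
  classical
  letI := Fintype.ofFinite G
  have hp : p.Prime := Fact.out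
  obtain ⟨x, hxc, hxz, hxo⟩ := eq_top_inf_center P.2 hne
  have hxG : orderOf (x : G) = p := by rw [Subgroup.orderOf_coe, hxo]
  have hpow : ∀ k : ℕ, (((x ^ k : (P : Subgroup G))) : G) ^ p = 1 := fun k => by
    rw [Subgroup.coe_pow, ← pow_mul, mul_comm, pow_mul,
      orderOf_dvd_iff_pow_eq_one.mp hxG.dvd, one_pow]
  have htwo : ∀ k : ℕ, ¬ p ∣ k → ∃ ζ : ℂ, ζ ^ p = 1 ∧ ζ ≠ 1 ∧
      finrank ℂ (eig ρ ((x : G) ^ k) ζ) = p ∧
      (∀ η : ℂ, η ≠ 1 → eig ρ ((x : G) ^ k) η ≠ ⊥ → η = ζ) ∧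
      eig ρ ((x : G) ^ k) 1 ⊔ eig ρ ((x : G) ^ k) ζ = ⊤ := by
    intro k hk
    refine two_eigen ρ hn2 (by simpa using hpow k) (fun h => hk ?_) fun η hη => ?_
    · rw [← hxG]
      exact orderOf_dvd_of_pow_eq_one (hinj (h.trans (map_one ρ).symm))
    · have := dvd_eig ρ (Subgroup.pow_mem _ hxc k) (Subgroup.pow_mem _ hxz k) (hpow k) hη
      simpa using this
  obtain ⟨ζ, hζp, hζ1, hd, -, -⟩ := htwo 1 (fun h => hp.not_dvd_one h)
  have hζ : IsPrimitiveRoot ζ p := IsPrimitiveRoot.iff_orderOf.mpr (orderOf_eq_prime hζp hζ1)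
  set ω := Complex.exp (2 * Real.pi * Complex.I / p) with hω
  have hωprim : IsPrimitiveRoot ω p := Complex.isPrimitiveRoot_exp p hp.ne_zero
  obtain ⟨k, -, hk⟩ := hζ.eq_pow_of_pow_eq_one hωprim.pow_eq_one
  have hω1 : ω ≠ 1 := hωprim.ne_one hp.one_lt
  have hkp : ¬ p ∣ k := fun ⟨c, hc⟩ => hω1 (by rw [← hk, hc, pow_mul, hζ.pow_eq_one, one_pow])
  obtain ⟨ζ', -, -, hd', huniq, hsup⟩ := htwo k hkp
  have heq : ω = ζ' := by
    refine huniq ω hω1 fun hb => ?_
    obtain ⟨v, hv, hv0⟩ := (Submodule.ne_bot_iff _).mp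
      (fun h : eig ρ ((x : G) ^ 1) ζ = ⊥ => hp.ne_zero (by rw [← hd, h, finrank_bot]))
    rw [pow_one] at hv
    have : v ∈ eig ρ ((x : G) ^ k) ω := (mem_eig ρ).mpr (by
      rw [apply_pow ρ ((mem_eig ρ).mp hv), hk])
    exact hv0 ((Submodule.mem_bot ℂ).mp (hb ▸ this))
  rw [← heq] at hsup hd'
  set z := (x : G) ^ k
  have hcomm := commute_conj ρ hinj hω1 (Complex.norm_eq_one_of_pow_eq_one hωprim.pow_eq_one hp.ne_zero)
    (normSq_exp_sub_one_lt h7) hsup
  -- the abelian normal closure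
  have hN : ∀ a ∈ Subgroup.normalClosure ({z} : Set G), ∀ b ∈ Subgroup.normalClosure ({z} : Set G),
      a * b = b * a := by
    have hconj : ∀ u ∈ Group.conjugatesOfSet ({z} : Set G), ∀ v ∈ Group.conjugatesOfSet ({z} : Set G),
        u * v = v * u := by
      intro u hu v hv
      obtain ⟨u', hu', hu''⟩ := Group.mem_conjugatesOfSet_iff.mp hu
      obtain ⟨v', hv', hv''⟩ := Group.mem_conjugatesOfSet_iff.mp hv
      obtain ⟨a, rfl⟩ := isConj_iff.mp hu''
      obtain ⟨b, rfl⟩ := isConj_iff.mp hv''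
      rw [Set.mem_singleton_iff.mp hu', Set.mem_singleton_iff.mp hv']
      have h := congrArg (fun t => a * t * a⁻¹) (hcomm (a⁻¹ * b))
      simp only [mul_inv_rev, inv_inv, mul_assoc, inv_mul_cancel_left, mul_inv_cancel_left, mul_inv_cancel, mul_one] at h ⊢
      exact h
    haveI := Subgroup.isMulCommutative_closure hconj
    intro a ha b hb
    exact congrArg Subtype.val (mul_comm'
      (⟨a, ha⟩ : Subgroup.closure (Group.conjugatesOfSet ({z} : Set G))) ⟨b, hb⟩)
  have hnp' : ¬ p ∣ finrank ℂ V := by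
    rintro ⟨c, hc⟩
    have h1 : p ≤ finrank ℂ V := hd' ▸ Submodule.finrank_le _
    have hc2 : c < 2 := Nat.lt_of_mul_lt_mul_left (a := p) (by omega)
    interval_cases c <;> omega
  obtain ⟨C, hCn, hCc, hCi⟩ := monomial ρ hirr hinj hp hnp' (Subgroup.normalClosure ({z} : Set G)) hN
    (Subgroup.subset_normalClosure rfl) hd'
  -- the Sylow subgroup of the abelian normal subgroup
  obtain ⟨Q⟩ := (inferInstance : Nonempty (Sylow p C))
  have hQn : (Q : Subgroup C).Normal := ⟨fun a ha g => by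
    rw [show g * a * g⁻¹ = a by
      rw [show g * a = a * g from Subtype.ext (hCc g g.2 a a.2), mul_inv_cancel_right]]
    exact ha⟩
  haveI : (Q : Subgroup C).Characteristic := Q.characteristic_of_normal hQn
  haveI := hCn
  have hle : (Q : Subgroup C).map C.subtype ≤ Cfsg.pCore p G :=
    Fitting.le_pCore ConjAct.normal_of_characteristic_of_normal (Q.2.map C.subtype)
  intro hsq
  have h2 : p ^ 2 ∣ (Q : Subgroup C).index * C.index := by
    rw [← Subgroup.index_map_subtype]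
    exact hsq.trans (Subgroup.index_dvd_of_le hle)
  have hQi : ¬ p ∣ (Q : Subgroup C).index := Q.not_dvd_index
  exact not_sq_dvd_factorial hp _ hn2
    (((Nat.Coprime.pow_left 2 (hp.coprime_iff_not_dvd.mpr hQi)).dvd_of_dvd_mul_left h2).trans hCi)

end CfsgLib.DegreeTwoP
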